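import Mathlib
import Cfsg.Agent.RealCls.Base
import Cfsg.Agent.Block.RealPP
import Cfsg.Agent.S4159
import Cfsg.Agent.S3863
import Cfsg.Agent.FGS.BHM
import Cfsg.Agent.FGS.SolvRad
import Cfsg.Agent.FGS.SylowCount
import Cfsg.Agent.Inv.ZStarCor
import Cfsg.Agent.Grp.Cores
import Cfsg.Agent.Ree.Count

/-! Real elements of odd order and Sylow `2`-subgroups: lifting, closure properties, and the
case that central involutions lie in a unique Sylow `2`-subgroup. -/

set_option autoImplicit false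
set_option linter.style.haveILetI false
set_option linter.unusedSectionVars false

namespace Cfsg.Agent.RealG

open Cfsg Cfsg.Agent Subgroup Cfsg.Agent.FGS.BHM Cfsg.Agent.PLocal.Amb

universe u

variable {G : Type*} [Group G]

theorem real_pow {x : G} (h : IsConj x x⁻¹) (n : ℕ) : IsConj (x ^ n) (x ^ n)⁻¹ := by
  obtain ⟨g, hg⟩ := isConj_iff.1 h
  exact isConj_iff.2 ⟨g, Inv.conj_pow_eq_inv hg n⟩

theorem real_of_mem_zpowers {x y : G} (h : IsConj x x⁻¹) (hy : y ∈ zpowers x) : IsConj y y⁻¹ := by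
  obtain ⟨g, hg⟩ := isConj_iff.1 h
  exact isConj_iff.2 ⟨g, Inv.conj_eq_inv_of_mem_zpowers hg hy⟩

theorem real_map {H : Type*} [Group H] (f : G →* H) {x : G} (h : IsConj x x⁻¹) :
    IsConj (f x) (f x)⁻¹ := by
  rw [← map_inv]
  exact f.map_isConj h

theorem real_conj {x : G} (h : IsConj x x⁻¹) (g : G) : IsConj (g * x * g⁻¹) (g * x * g⁻¹)⁻¹ :=
  real_map (MulAut.conj g).toMonoidHom h

theorem mem_smul_iff {p : ℕ} (T : Sylow p G) (g x : G) :
    x ∈ ((g • T : Sylow p G) : Subgroup G) ↔ g⁻¹ * x * g ∈ (T : Subgroup G) := by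
  rw [Sylow.coe_subgroup_smul, Subgroup.mem_pointwise_smul_iff_inv_smul_mem, ← map_inv,
    MulAut.smul_def, MulAut.conj_apply, inv_inv]

theorem conj_mem_smul {p : ℕ} {T : Sylow p G} {x : G} (h : x ∈ (T : Subgroup G)) (g : G) :
    g * x * g⁻¹ ∈ ((g • T : Sylow p G) : Subgroup G) := by
  rw [mem_smul_iff]
  simpa [mul_assoc] using h

theorem eq_one_of_odd_of_sq [Finite G] {w : G} (hw : Odd (orderOf w)) {k : ℕ}
    (h : w ^ 2 ^ k = 1) : w = 1 :=
  orderOf_eq_one_iff.1 (Nat.eq_one_of_dvd_coprimes ((Nat.coprime_two_right.2 hw).pow_right k)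
    dvd_rfl (orderOf_dvd_of_pow_eq_one h))

/-- Real elements of odd order lift over every surjection. -/
theorem exists_real_odd_lift (G : Type u) [Group G] [Finite G] :
    ∀ (H : Type u) [Group H] (f : G →* H), Function.Surjective f → ∀ y : H, Odd (orderOf y) →
      IsConj y y⁻¹ → ∃ x : G, f x = y ∧ Odd (orderOf x) ∧ IsConj x x⁻¹ := by
  refine Grp.card_induction (P := fun G _ _ => ∀ (H : Type u) [Group H] (f : G →* H),
    Function.Surjective f → ∀ y : H, Odd (orderOf y) →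
      IsConj y y⁻¹ → ∃ x : G, f x = y ∧ Odd (orderOf x) ∧ IsConj x x⁻¹) ?_ G
  intro G _ _ ih H _ f hf y hy hr
  obtain ⟨Q⟩ : Nonempty (Sylow 2 f.ker) := inferInstance
  set Q' : Subgroup G := (Q : Subgroup f.ker).map f.ker.subtype with hQ'
  have hF : normalizer (Q' : Set G) ⊔ f.ker = ⊤ := Sylow.normalizer_sup_eq_top Q
  by_cases hN : normalizer (Q' : Set G) = ⊤
  · haveI : Q'.Normal := normalizer_eq_top_iff.1 hN
    have hle : Q' ≤ f.ker := map_subtype_le _
    by_cases h0 : Q' = ⊥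
    · have hodd : Odd (Nat.card f.ker) := by
        have h1 : (Q : Subgroup f.ker) = ⊥ :=
          (Subgroup.map_eq_bot_iff_of_injective _ (subtype_injective _)).1 h0
        have h2 := Q.not_dvd_index
        rw [h1, index_bot] at h2
        exact Nat.odd_iff.2 (by omega)
      let e := QuotientGroup.quotientKerEquivOfSurjective f hf
      obtain ⟨g, hg, hgy⟩ := Block.exists_real_lift_of_odd hodd (e.symm y)
        (real_map e.symm.toMonoidHom hr)
      have hfg : f g = y := by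
        have : e (g : G ⧸ f.ker) = f g := rfl
        rw [← this, hgy, e.apply_symm_apply]
      obtain ⟨x, hx, hfx, hp⟩ := FGS.exists_lift_prime_dvd f g
      refine ⟨x, hfx.trans hfg, ?_, real_of_mem_zpowers hg hx⟩
      refine Nat.not_even_iff_odd.1 fun he => ?_
      have := hp 2 Nat.prime_two he.two_dvd
      rw [hfg] at this
      exact Nat.not_even_iff_odd.2 hy (even_iff_two_dvd.2 this)
    · obtain ⟨x, hx, hxo, hxr⟩ := ih (G ⧸ Q') (Grp.card_quotient_lt _ h0) H
        (QuotientGroup.lift Q' f fun a ha => hle ha) (fun b => by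
          obtain ⟨a, rfl⟩ := hf b
          exact ⟨a, rfl⟩) y hy hr
      obtain ⟨s, hs⟩ := isConj_iff.1 hxr
      obtain ⟨x', g, rfl, h1, h2⟩ := S4159.exists_real_lift Q' (Q.isPGroup'.map _) x s hxo hs
      exact ⟨x', hx, h1, isConj_iff.2 ⟨g, h2⟩⟩
  · obtain ⟨x, hx, hxo, hxr⟩ := ih (normalizer (Q' : Set G)) (Grp.card_lt_of_ne_top hN) H
      (f.comp (Subgroup.subtype _)) (fun b => by
        obtain ⟨a, rfl⟩ := hf b
        have ha : a ∈ normalizer (Q' : Set G) ⊔ f.ker := hF ▸ mem_top a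
        obtain ⟨n, hn, k, hk, rfl⟩ := (mem_sup_of_normal_right).1 ha
        exact ⟨⟨n, hn⟩, by simp [(MonoidHom.mem_ker).1 hk]⟩) y hy hr
    exact ⟨x, hx, by rwa [Subgroup.orderOf_coe], real_map (Subgroup.subtype _) hxr⟩

variable [Finite G]

theorem card_sylow_normal_dvd (N : Subgroup G) [N.Normal] (p : ℕ) [Fact p.Prime] :
    Nat.card (Sylow p N) ∣ Nat.card (Sylow p G) := by
  obtain ⟨T⟩ : Nonempty (Sylow p G) := inferInstance
  have h1 : ¬ p ∣ ((T : Subgroup G) ⊓ N).relIndex N := by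
    rw [inf_relIndex_right]
    exact fun h => T.not_dvd_index (h.trans (FGS.relIndex_normal_dvd_index _ _))
  rw [FGS.card_sylow_subgroup inf_le_right (T.isPGroup'.to_inf_left) h1,
    T.card_eq_index_normalizer]
  refine (FGS.relIndex_normal_dvd_index _ _).trans (index_dvd_of_le fun g hg => ?_)
  exact le_normalizer_inf (L := 𝐍[(T : Subgroup G)]) le_rfl le_normalizer_of_normal hg

theorem card_sylow_map_dvd {H : Type*} [Group H] (f : G →* H) (hf : Function.Surjective f)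
    (p : ℕ) [Fact p.Prime] : Nat.card (Sylow p H) ∣ Nat.card (Sylow p G) := by
  obtain ⟨T⟩ : Nonempty (Sylow p G) := inferInstance
  rw [FGS.card_sylow_of_surjective f hf T, T.card_eq_index_normalizer]
  exact index_dvd_of_le le_sup_right

theorem smul_eq_iff {p : ℕ} {T : Sylow p G} {g : G} : g • T = T ↔ g ∈ 𝐍[(T : Subgroup G)] :=
  Sylow.smul_eq_iff_mem_normalizer

/-- A subgroup of index prime to the number of Sylow subgroups is transitive on them. -/
theorem exists_smul_of_coprime {p : ℕ} [Fact p.Prime] {C : Subgroup G}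
    (h : C.index.Coprime (Nat.card (Sylow p G))) (T R : Sylow p G) : ∃ c ∈ C, c • T = R := by
  obtain ⟨g, rfl⟩ := MulAction.exists_smul_eq G T R
  rw [T.card_eq_index_normalizer] at h
  obtain ⟨c, hc, n, hn, rfl⟩ := Grp.exists_mul_of_coprime_index h g
  exact ⟨c, hc, by rw [mul_smul, smul_eq_iff.2 hn]⟩

/-- real elements of odd order have class size prime to the number of Sylow `2`-subgroups -/
def P2 (G : Type*) [Group G] : Prop :=
  ∀ w : G, Odd (orderOf w) → IsConj w w⁻¹ → (ix w).Coprime (Nat.card (Sylow 2 G))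

theorem P2.normal (h : P2 G) (N : Subgroup G) [N.Normal] : P2 N := fun w hw hr =>
  Nat.Coprime.coprime_dvd_left (FGS.index_centralizer_normal_dvd N w)
    ((h w (by rwa [Subgroup.orderOf_coe]) (real_map N.subtype hr)).coprime_dvd_right
      (card_sylow_normal_dvd N 2))

theorem P2.map {G H : Type u} [Group G] [Finite G] [Group H] (h : P2 G) (f : G →* H)
    (hf : Function.Surjective f) : P2 H := fun w hw hr => by
  obtain ⟨x, rfl, h1, h2⟩ := exists_real_odd_lift G H f hf w hw hr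
  exact Nat.Coprime.coprime_dvd_left (FGS.index_centralizer_map_dvd f hf x)
    ((h x h1 h2).coprime_dvd_right (card_sylow_map_dvd f hf 2))

/-- no nontrivial real element of odd order normalizes a Sylow `2`-subgroup -/
def NR (G : Type*) [Group G] : Prop :=
  ∀ (T : Sylow 2 G) (w : G), Odd (orderOf w) → IsConj w w⁻¹ → w ∈ 𝐍[(T : Subgroup G)] → w = 1

theorem P2.nr (h : P2 G) : NR G := by
  intro T w hw hr hn
  obtain ⟨⟨t, ⟨j, hj⟩, ht⟩, -⟩ := S3863.result w hr
  obtain ⟨R, hR⟩ := FGS.exists_sylow_mem (p := 2) (x := t) ⟨j, hj ▸ pow_orderOf_eq_one t⟩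
  obtain ⟨c, hc, rfl⟩ := exists_smul_of_coprime (h w hw hr) T R
  have h1 : w ∈ 𝐍[((c • T : Sylow 2 G) : Subgroup G)] := by
    rw [← smul_eq_iff, smul_smul, ← mem_c.1 hc, mul_smul, smul_eq_iff.2 hn]
  have h2 : t * (w * t⁻¹ * w⁻¹) ∈ ((c • T : Sylow 2 G) : Subgroup G) :=
    mul_mem hR (conj_mem_of_mem_normalizer h1 (inv_mem hR))
  have e : t * (w * t⁻¹ * w⁻¹) = (w ^ 2)⁻¹ := by
    calc _ = t * w * t⁻¹ * w⁻¹ := by group
      _ = _ := by rw [ht]; group
  rw [e, inv_mem_iff] at h2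
  obtain ⟨k, hk⟩ := PLocal.Amb.isPGroup_iff.1 (c • T).isPGroup' _ h2
  exact eq_one_of_odd_of_sq hw (k := k + 1) (by rw [pow_succ', pow_mul, hk])

theorem solv_normalizer (S : Sylow 2 G) : Group.IsSolvable 𝐍[(S : Subgroup G)] := by
  obtain ⟨P, hP⟩ := (isSyl_of_le S (L := 𝐍[(S : Subgroup G)]) le_normalizer).exists_sylow
  haveI : (P : Subgroup 𝐍[(S : Subgroup G)]).Normal := hP ▸ normal_subgroupOf' le_rfl
  exact RealCls.isSolvable_of_normal P

omit [Finite G] in
theorem mul_zpow_conj {a u : G} (ha : a * a = 1) (hu : u * u = 1) (k : ℤ) :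
    (∃ g, g * a * g⁻¹ = a * (a * u) ^ k) ∨ ∃ g, g * u * g⁻¹ = a * (a * u) ^ k := by
  have key : ∀ t x : G, t * x * t⁻¹ = x⁻¹ → ∀ l : ℤ, x ^ (-l) * t * (x ^ (-l))⁻¹ = t * x ^ (2 * l) := by
    intro t x h l
    have h1 := Inv.conj_zpow_eq_inv h l
    calc x ^ (-l) * t * (x ^ (-l))⁻¹ = (x ^ l)⁻¹ * t * x ^ l := by group
      _ = t * x ^ (2 * l) := by rw [← h1]; group
  obtain ⟨l, rfl | rfl⟩ := Int.even_or_odd' k
  · exact Or.inl ⟨_, key a _ (Inv.conj_mul_eq_inv_left ha hu) l⟩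
  · refine Or.inr ⟨_, (key u _ (Inv.conj_mul_eq_inv_right ha hu) l).trans ?_⟩
    rw [add_comm, zpow_add, zpow_one, ← mul_assoc, ← mul_assoc, ha, one_mul]

/-- `a` is an involution in the centre of `T` -/
structure CI (T : Sylow 2 G) (a : G) : Prop where
  mem : a ∈ (T : Subgroup G)
  sq : a * a = 1
  ne : a ≠ 1
  comm : ∀ t ∈ (T : Subgroup G), t * a = a * t

omit [Finite G] in
theorem CI.conj {T : Sylow 2 G} {a : G} (h : CI T a) (g : G) : CI (g • T) (g * a * g⁻¹) where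
  mem := conj_mem_smul h.mem g
  sq := by rw [conj_mul, h.sq]; group
  ne := fun e => h.ne (by simpa using e)
  comm := fun t ht => by
    have := h.comm _ ((mem_smul_iff T g t).1 ht)
    calc t * (g * a * g⁻¹) = g * (g⁻¹ * t * g * a) * g⁻¹ := by group
      _ = _ := by rw [this]; group

theorem exists_ci (T : Sylow 2 G) (h : (T : Subgroup G) ≠ ⊥) : ∃ a, CI T a := by
  obtain ⟨a, ha, h2⟩ := Inv.exists_involution_of_isPGroup (T.isPGroup'.to_inf_left)
    (inf_centralizer_ne_bot T.isPGroup' T.isPGroup' le_normalizer h)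
  exact ⟨a, ha.1, Inv.mul_self_of_orderOf_two h2, Inv.ne_one_of_orderOf_two h2,
    fun t ht => mem_centralizer_iff.1 ha.2 t ht⟩

section uniq

variable (hn : NR G)
  (hu : ∀ (T R : Sylow 2 G) (a : G), CI T a → a ∈ (R : Subgroup G) → R = T)

include hu in
theorem uq_norm {T : Sylow 2 G} {a c : G} (h : CI T a) (hc : c * a = a * c) :
    c ∈ 𝐍[(T : Subgroup G)] := by
  rw [← smul_eq_iff]
  refine hu T _ a h ?_
  have := conj_mem_smul h.mem c
  rwa [hc, mul_inv_cancel_right] at this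

include hu in
theorem uq_ci {T R : Sylow 2 G} {a : G} (h : CI R a) (g : G) (hg : g * a * g⁻¹ ∈ (T : Subgroup G)) :
    CI T (g * a * g⁻¹) := by
  rw [hu _ T _ (h.conj g) hg]
  exact h.conj g

include hu in
theorem uq_odd {T R : Sylow 2 G} (hTR : T ≠ R) {a u : G} (ha : CI T a) (hu' : CI R u) :
    Odd (orderOf (a * u)) := by
  refine Nat.not_even_iff_odd.1 fun he => ?_
  obtain ⟨z, hz, hz2, h1, h2⟩ := Inv.exists_central_involution_of_even ha.sq hu'.sq he
  have hz' : z ^ 2 ^ 1 = 1 := by rw [pow_one, ← hz2, pow_orderOf_eq_one]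
  have hT : z ∈ (T : Subgroup G) := Ree.mem_sylow_of_mem_normalizer T hz' (uq_norm hu ha h1.eq)
  have hR : z ∈ (R : Subgroup G) := Ree.mem_sylow_of_mem_normalizer R hz' (uq_norm hu hu' h2.eq)
  obtain ⟨k, rfl⟩ := mem_zpowers_iff.1 hz
  have h3 : CI T (a * (a * u) ^ k) := by
    rcases mul_zpow_conj ha.sq hu'.sq k with ⟨g, hg⟩ | ⟨g, hg⟩
    · rw [← hg]
      exact uq_ci hu ha g (hg ▸ mul_mem ha.mem hT)
    · rw [← hg]
      exact uq_ci hu hu' g (hg ▸ mul_mem ha.mem hT)
  refine hTR (hu T R _ ⟨hT, Inv.mul_self_of_orderOf_two hz2, Inv.ne_one_of_orderOf_two hz2,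
    fun t ht => ?_⟩ hR).symm
  have h4 := h3.comm t ht
  rw [← mul_assoc, ha.comm t ht, mul_assoc, mul_assoc] at h4
  exact mul_left_cancel h4

omit [Finite G] in
theorem exists_swap {a u : G} (ha : a * a = 1) (hu : u * u = 1) (h : Odd (orderOf (a * u))) :
    ∃ j : G, j * j = 1 ∧ j * u * j⁻¹ = a := by
  obtain ⟨n, hn⟩ := Inv.exists_conj_of_odd_orderOf_mul ha hu h
  have h1 := Inv.conj_pow_eq_inv (Inv.conj_mul_eq_inv_right ha hu) n
  have hi : u⁻¹ = u := inv_eq_of_mul_eq_one_right hu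
  refine ⟨(a * u) ^ n * u, ?_, ?_⟩
  · calc _ = (a * u) ^ n * (u * (a * u) ^ n * u⁻¹) := by rw [hi]; group
      _ = 1 := by rw [h1]; group
  · refine Eq.trans ?_ hn
    group

include hn hu in
theorem uq_eq {T R : Sylow 2 G} (hTR : T ≠ R) {a b u : G} (ha : CI T a) (hb : CI T b)
    (hu' : CI R u) : b = a := by
  obtain ⟨j, j1, j2⟩ := exists_swap ha.sq hu'.sq (uq_odd hu hTR ha hu')
  obtain ⟨i, i1, i2⟩ := exists_swap hb.sq hu'.sq (uq_odd hu hTR hb hu')
  have hj : j⁻¹ = j := inv_eq_of_mul_eq_one_right j1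
  have e : (i * j) * a * (i * j)⁻¹ = b := by
    rw [← j2, ← i2]
    calc _ = i * ((j * j) * u * (j * j)⁻¹) * i⁻¹ := by group
      _ = _ := by rw [j1]; group
  have h1 : i * j ∈ 𝐍[(T : Subgroup G)] :=
    smul_eq_iff.1 (hu T _ b hb (e ▸ conj_mem_smul ha.mem _))
  obtain ⟨k, hk⟩ := exists_pow_coprime (p := 2) (i * j)
  have h2 := hn T _ (Nat.coprime_two_right.1 hk)
    (real_pow (isConj_iff.2 ⟨i, Inv.conj_mul_eq_inv_left i1 j1⟩) _) (pow_mem h1 _)
  rw [← e, ha.comm _ (Ree.mem_sylow_of_mem_normalizer T h2 h1), mul_inv_cancel_right]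

include hn hu in
theorem solv_of_uniq : Group.IsSolvable G := by
  obtain ⟨T⟩ : Nonempty (Sylow 2 G) := inferInstance
  by_cases hT : (T : Subgroup G).Normal
  · exact RealCls.isSolvable_of_normal T
  obtain ⟨a, ha⟩ := exists_ci T fun e => hT (e ▸ inferInstance)
  obtain ⟨g, hg⟩ : ∃ g : G, g • T ≠ T := by
    by_contra h
    push Not at h
    exact hT (normalizer_eq_top_iff.1 (eq_top_iff.2 fun g _ => smul_eq_iff.1 (h g)))
  have h1 := Inv.ZStar.centralizer_sup_oddCore T (Inv.orderOf_two_of_mul_self ha.sq ha.ne) ha.mem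
    fun k hk => uq_eq hn hu hg.symm ha (uq_ci hu ha k hk) (ha.conj g)
  haveI := solv_normalizer T
  have h2 : Group.IsSolvable (centralizer ({a} : Set G)) :=
    Grp.isSolvable_of_le (K := 𝐍[(T : Subgroup G)]) fun c hc => uq_norm hu ha (mem_c.1 hc)
  have h3 := FGS.isSolvable_sup_of_normal (N := oddCore G) h2
    (S0205.result (Nat.coprime_two_right.1 (Grp.pPrimeCore_coprime 2 G)))
  rw [h1] at h3
  exact Group.isSolvable_of_surjective (f := (⊤ : Subgroup G).subtype) fun x => ⟨⟨x, trivial⟩, rfl⟩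

end uniq

end Cfsg.Agent.RealG
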