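import Mathlib
import Cfsg.Agent.RealG.A
import Cfsg.Agent.S0675
import Cfsg.Agent.Perm.BGroup
import Cfsg.Agent.Char.Burnside

/-! A group with a cyclic subgroup transitive on the Sylow `2`-subgroups (by coprime index), in
which real elements of odd order have class size prime to the number of Sylow `2`-subgroups,
is solvable. -/

set_option autoImplicit false
set_option linter.style.haveILetI false
set_option linter.unusedSectionVars false

namespace Cfsg.Agent.RealG

open Cfsg Cfsg.Agent Subgroup Cfsg.Agent.FGS.BHM Cfsg.Agent.PLocal.Amb MulAction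

universe u

variable {G : Type*} [Group G] [Finite G]

theorem two_trans {Ω : Type*} [MulAction G Ω] [FaithfulSMul G Ω] [Finite Ω] [IsPretransitive G Ω]
    (hs : ¬ Group.IsSolvable G) (hp : IsPreprimitive G Ω) (hn : 2 ≤ Nat.card Ω) (C : Subgroup G)
    (hcyc : IsCyclic C) (α : Ω) (hreg : Function.Bijective fun h : C => C.subtype h • α) :
    IsMultiplyPretransitive G Ω 2 := by
  by_contra hcon
  have hq := Nat.minFac_prime (n := Nat.card Ω) (by omega)
  by_cases h : (Nat.card Ω).minFac = Nat.card Ω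
  · haveI : Fact (Nat.card Ω).Prime := ⟨h ▸ hq⟩
    letI := Fintype.ofFinite Ω
    obtain ⟨P⟩ : Nonempty (Sylow (Nat.card Ω) G) := inferInstance
    obtain ⟨c, e, -, -, hc⟩ := Perm.exists_coord_of_prime_degree (Ω := Ω) rfl P
    exact hcon (S0675.two_trans_of_not_affine hc fun h => hs (Perm.isSolvable_of_affine h))
  · letI := hcyc.commGroup
    have hc : Nat.card C = Nat.card Ω := Nat.card_eq_of_bijective _ hreg
    refine (Perm.BGroup.imprimitive_of_not_two_trans C.subtype α hreg hq ?_ ?_ hcon).1 hp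
    · have := IsCyclic.card_powMonoidHom_ker C (Nat.card Ω).minFac
      rw [hc, Nat.gcd_eq_right (Nat.minFac_dvd _)] at this
      exact this
    · rw [hc]
      exact lt_of_le_of_ne (Nat.minFac_le (by omega)) h

section two

variable (h2 : ∀ {a b c d : Sylow 2 G}, a ≠ b → c ≠ d → ∃ g : G, g • a = c ∧ g • b = d)
  (h0 : ∀ a : G, (∀ Q : Sylow 2 G, a ∈ (Q : Subgroup G)) → a = 1)
include h2

theorem inf_eq_of_le {a b c d : Sylow 2 G} (h : a ≠ b) (h' : c ≠ d)
    (hle : (a : Subgroup G) ⊓ b ≤ (c : Subgroup G) ⊓ d) :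
    (a : Subgroup G) ⊓ b = (c : Subgroup G) ⊓ d := by
  obtain ⟨g, rfl, rfl⟩ := h2 h h'
  refine eq_of_le_of_card_ge hle ?_
  rw [coe_smul_sylow, coe_smul_sylow, ← cj_inf, card_cj]

include h0

theorem eq_of_ci {T R : Sylow 2 G} {a : G} (hT : CI T a) (hR : CI R a) : T = R := by
  by_contra hne
  refine hT.ne (h0 a fun Q => ?_)
  by_cases h1 : T = Q
  · exact h1 ▸ hT.mem
  by_cases h3 : R = Q
  · exact h3 ▸ hR.mem
  by_cases h4 : Q = a • Q
  · exact Ree.mem_sylow_of_mem_normalizer Q (k := 1) (by rw [pow_one, sq, hT.sq])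
      (smul_eq_iff.1 h4.symm)
  have key : ∀ {S : Sylow 2 G}, CI S a → S ≠ Q →
      (S : Subgroup G) ⊓ Q = (Q : Subgroup G) ⊓ (a • Q : Sylow 2 G) := fun hS hSQ =>
    inf_eq_of_le h2 hSQ h4 fun x hx => ⟨hx.2, by
      have := conj_mem_smul hx.2 a
      rwa [← hS.comm x hx.1, mul_inv_cancel_right] at this⟩
  have e := (key hT h1).trans (key hR h3).symm
  have e2 := inf_eq_of_le h2 h1 hne (le_inf inf_le_left (e.le.trans inf_le_left))
  exact (e2.ge ⟨hT.mem, hR.mem⟩).2

theorem uniq_of_two (T R : Sylow 2 G) (a : G) (ha : CI T a) (hR : a ∈ (R : Subgroup G)) :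
    R = T := by
  by_contra hne
  have hne' : T ≠ R := Ne.symm hne
  obtain ⟨b, hb, hbR⟩ : ∃ b, CI T b ∧ b ∉ (R : Subgroup G) := by
    by_contra h
    push Not at h
    refine ha.ne (h0 a fun Q => ?_)
    by_cases h1 : T = Q
    · exact h1 ▸ ha.mem
    obtain ⟨g, g1, rfl⟩ := h2 hne' h1
    have := ha.conj g⁻¹
    rw [inv_smul_eq_iff.2 g1.symm, inv_inv] at this
    exact (mem_smul_iff R g a).2 (h _ this)
  obtain ⟨g, g1, g2⟩ := h2 hne' hne
  have h3 := ha.conj g
  have h4 := conj_mem_smul hR g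
  rw [g1] at h3
  rw [g2] at h4
  have h5 := h3.conj b
  rw [← hb.comm _ h4, mul_inv_cancel_right] at h5
  exact hbR (Ree.mem_sylow_of_mem_normalizer R (k := 1) (by rw [pow_one, sq, hb.sq])
    (smul_eq_iff.1 (eq_of_ci h2 h0 h5 h3)))

end two

/-- a cyclic subgroup has index prime to the number of Sylow `2`-subgroups -/
def P3 (G : Type*) [Group G] : Prop :=
  ∃ C : Subgroup G, IsCyclic C ∧ C.index.Coprime (Nat.card (Sylow 2 G))

theorem P3.normal (h : P3 G) (N : Subgroup G) [N.Normal] : P3 N := by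
  obtain ⟨C, h1, h2⟩ := h
  refine ⟨C.subgroupOf N, ?_, Nat.Coprime.coprime_dvd_left (FGS.relIndex_normal_dvd_index C N)
    (h2.coprime_dvd_right (card_sylow_normal_dvd N 2))⟩
  exact isCyclic_of_injective ((N.subtype.comp (C.subgroupOf N).subtype).codRestrict C
    fun x => x.2) fun x y e => Subtype.ext (Subtype.ext (congrArg (fun z : C => (z : G)) e))

theorem P3.map {H : Type*} [Group H] (h : P3 G) (f : G →* H) (hf : Function.Surjective f) :
    P3 H := by
  obtain ⟨C, h1, h2⟩ := h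
  exact ⟨C.map f, isCyclic_of_surjective _ (f.subgroupMap_surjective C),
    Nat.Coprime.coprime_dvd_left (index_map_dvd C hf)
      (h2.coprime_dvd_right (card_sylow_map_dvd f hf 2))⟩

theorem solv_simple [IsSimpleGroup G] (h2 : P2 G) (h3 : P3 G) : Group.IsSolvable G := by
  by_contra hs
  obtain ⟨C, hC, hi⟩ := h3
  obtain ⟨T⟩ : Nonempty (Sylow 2 G) := inferInstance
  have hN : 𝐍[(T : Subgroup G)] ≠ ⊤ := fun e => by
    haveI := normalizer_eq_top_iff.1 e
    exact hs (RealCls.isSolvable_of_normal T)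
  have hcore : ∀ M : Subgroup G, M ≠ ⊤ → M.normalCore = ⊥ := fun M hM =>
    (IsSimpleGroup.eq_bot_or_eq_top_of_normal _ inferInstance).resolve_right fun e =>
      hM (eq_top_iff.2 (e.ge.trans M.normalCore_le))
  have hi' := hi
  rw [T.card_eq_index_normalizer] at hi'
  have hM : ∀ M : Subgroup G, M ≠ ⊤ → 𝐍[(T : Subgroup G)] ≤ M → ∀ x ∈ C, x ∈ M → x = 1 := by
    intro M hM hle x hx hxM
    rw [← Subgroup.mem_bot, ← hcore M hM]
    intro g
    obtain ⟨n, hn, c, hc, rfl⟩ := Grp.exists_mul_of_coprime_index hi'.symm g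
    have e : c * x = x * c := congrArg Subtype.val
      (hC.commGroup.mul_comm (⟨c, hc⟩ : C) ⟨x, hx⟩)
    have e2 : n * c * x * (n * c)⁻¹ = n * x * n⁻¹ := by rw [mul_assoc n, e]; group
    rw [e2]
    exact mul_mem (mul_mem (hle hn) hxM) (inv_mem (hle hn))
  have hfix : ∀ a : G, (∀ Q : Sylow 2 G, a • Q = Q) → a = 1 := fun a ha => by
    rw [← Subgroup.mem_bot, ← hcore _ hN]
    intro g
    rw [← smul_eq_iff, mul_smul, mul_smul, ha, smul_inv_smul]
  haveI : FaithfulSMul G (Sylow 2 G) := ⟨fun {a b} h => by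
    rw [← inv_mul_eq_one]
    exact hfix _ fun Q => by rw [mul_smul, ← h, inv_smul_smul]⟩
  obtain ⟨g, hg⟩ : ∃ g : G, g • T ≠ T := by
    by_contra h
    push Not at h
    exact hN (eq_top_iff.2 fun g _ => smul_eq_iff.1 (h g))
  haveI : Nontrivial (Sylow 2 G) := ⟨_, _, hg⟩
  have hp : IsPreprimitive G (Sylow 2 G) := by
    rw [← isCoatom_stabilizer_iff_preprimitive G T, Sylow.stabilizer_eq_normalizer]
    refine ⟨hN, fun M hlt => by_contra fun hM' => hlt.not_ge fun m hm => ?_⟩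
    obtain ⟨c, hc, n, hn, rfl⟩ := Grp.exists_mul_of_coprime_index hi' m
    rw [hM M hM' hlt.le c hc ((mul_mem_cancel_right (hlt.le hn)).1 hm), one_mul]
    exact hn
  have h4 := two_trans hs hp Finite.one_lt_card C hC T ⟨fun x y e => ?_, fun R => ?_⟩
  · refine hs (solv_of_uniq h2.nr (uniq_of_two (is_two_pretransitive_iff.1 h4) fun a ha =>
      hfix a fun Q => smul_eq_iff.2 (le_normalizer (ha Q))))
  · have : (y : G)⁻¹ * x = 1 := hM _ hN le_rfl _ (mul_mem (inv_mem y.2) x.2) (by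
      rw [← smul_eq_iff, mul_smul, inv_smul_eq_iff]; exact e)
    exact Subtype.ext (inv_mul_eq_one.1 this).symm
  · obtain ⟨c, hc, e⟩ := exists_smul_of_coprime hi T R
    exact ⟨⟨c, hc⟩, e⟩

theorem solv_of_P3 (G : Type u) [Group G] [Finite G] (h2 : P2 G) (h3 : P3 G) :
    Group.IsSolvable G :=
  FGS.isSolvable_of_closed (P := fun G _ _ => P2 G ∧ P3 G)
    (fun _ _ _ N _ h => ⟨h.1.normal N, h.2.normal N⟩)
    (fun _ _ _ N _ h => ⟨h.1.map _ (QuotientGroup.mk'_surjective N),
      h.2.map _ (QuotientGroup.mk'_surjective N)⟩)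
    (fun _ _ _ _ h => solv_simple h.1 h.2) G ⟨h2, h3⟩

theorem exists_real_odd {T : Sylow 2 G} (h : ¬ (T : Subgroup G).Normal) :
    ∃ w : G, w ≠ 1 ∧ Odd (orderOf w) ∧ IsConj w w⁻¹ := by
  by_contra h1
  push Not at h1
  exact h ((S3861.result T).1 h1)

/-- real elements of odd order with class sizes powers of `2` -/
theorem solv_of_P4 (G : Type u) [Group G] [Finite G]
    (h : ∀ w : G, Odd (orderOf w) → IsConj w w⁻¹ → ∃ k, ix w ∣ 2 ^ k) : Group.IsSolvable G := by
  refine FGS.isSolvable_of_closed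
    (P := fun G _ _ => ∀ w : G, Odd (orderOf w) → IsConj w w⁻¹ → ∃ k, ix w ∣ 2 ^ k)
    (fun G _ _ N _ h w hw hr => ?_) (fun G _ _ N _ h w hw hr => ?_) (fun G _ _ _ h => ?_) G h
  · obtain ⟨k, hk⟩ := h w (by rwa [Subgroup.orderOf_coe]) (real_map N.subtype hr)
    exact ⟨k, (FGS.index_centralizer_normal_dvd N w).trans hk⟩
  · obtain ⟨x, rfl, h1, h2⟩ := exists_real_odd_lift G _ _ (QuotientGroup.mk'_surjective N) w hw hr
    obtain ⟨k, hk⟩ := h x h1 h2
    exact ⟨k, (FGS.index_centralizer_map_dvd _ (QuotientGroup.mk'_surjective N) x).trans hk⟩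
  · obtain ⟨T⟩ : Nonempty (Sylow 2 G) := inferInstance
    by_cases hT : (T : Subgroup G).Normal
    · exact RealCls.isSolvable_of_normal T
    obtain ⟨w, h1, h2, h3⟩ := exists_real_odd hT
    obtain ⟨k, hk⟩ := h w h2 h3
    obtain ⟨j, -, hj⟩ := (Nat.dvd_prime_pow Nat.prime_two).1 hk
    haveI := Fact.mk (Char.prime_card_of_class_prime_pow Nat.prime_two w h1 hj)
    haveI := isCyclic_of_prime_card (α := G) rfl
    exact Group.isSolvable_of_comm fun a b => (IsCyclic.commGroup (α := G)).mul_comm a b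

end Cfsg.Agent.RealG
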