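import Mathlib
import Cfsg.Agent.RealG.B
import Cfsg.Agent.RealG.C
import Cfsg.Agent.S3863
import Cfsg.Agent.Misc.Zsigmondy
import Cfsg.Agent.Block.TwoGood

/-! A group acting on an elementary abelian `2`-group with `2`-closed stabilizers of odd index,
whose real elements of odd order have class size prime to the number of Sylow `2`-subgroups, is
solvable. -/

set_option autoImplicit false
set_option linter.style.haveILetI false
set_option linter.unusedSectionVars false

namespace Cfsg.Agent.RealG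

open Cfsg Cfsg.Agent Subgroup Cfsg.Agent.FGS.BHM Cfsg.Agent.PLocal.Amb MulAction

universe u

/-- the module hypothesis -/
structure MH (K U : Type*) [Group K] [CommGroup U] [MulDistribMulAction K U] : Prop where
  sq : ∀ u : U, u * u = 1
  nt : Nontrivial U
  faith : ∀ g : K, (∀ u : U, g • u = u) → g = 1
  st : ∀ u : U, u ≠ 1 → ∃ T : Sylow 2 K, u ∈ fs U (T : Subgroup K) ∧
    ∀ g : K, g • u = u → g ∈ 𝐍[(T : Subgroup K)]

variable {K U : Type*} [Group K] [Finite K] [CommGroup U] [Finite U] [MulDistribMulAction K U]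

theorem sylow_eq_of_le_norm {p : ℕ} {T R : Sylow p K}
    (h : (R : Subgroup K) ≤ 𝐍[(T : Subgroup K)]) : R = T :=
  Sylow.ext (R.is_maximal' T.isPGroup' fun x hx => by
    obtain ⟨k, hk⟩ := PLocal.Amb.isPGroup_iff.1 R.isPGroup' x hx
    exact Ree.mem_sylow_of_mem_normalizer T hk (h hx)).symm

theorem card_fs_smul (T : Sylow 2 K) (g : K) :
    Nat.card (fs U ((g • T : Sylow 2 K) : Subgroup K)) = Nat.card (fs U (T : Subgroup K)) := by
  refine Nat.card_congr
    { toFun := fun u => ⟨g⁻¹ • u.1, mem_fs.2 fun t ht => ?_⟩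
      invFun := fun u => ⟨g • u.1, mem_fs.2 fun t ht => ?_⟩
      left_inv := fun u => Subtype.ext (smul_inv_smul _ _)
      right_inv := fun u => Subtype.ext (inv_smul_smul _ _) }
  · have := mem_fs.1 u.2 _ (conj_mem_smul ht g)
    rw [mul_smul, mul_smul, ← eq_inv_smul_iff] at this
    exact this
  · have := mem_fs.1 u.2 _ ((mem_smul_iff T g t).1 ht)
    rw [mul_smul, mul_smul, inv_smul_eq_iff] at this
    exact this

theorem card_ne_one (A : Type*) [Group A] [Finite A] :
    Nat.card {a : A // a ≠ 1} = Nat.card A - 1 := by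
  classical
  letI := Fintype.ofFinite A
  rw [Nat.card_eq_fintype_card, Nat.card_eq_fintype_card]
  exact Set.card_ne_eq 1

namespace MH

variable (H : MH K U)
include H

theorem norm {T : Sylow 2 K} {u : U} (h1 : u ≠ 1) (hu : u ∈ fs U (T : Subgroup K)) {g : K}
    (hg : g • u = u) : g ∈ 𝐍[(T : Subgroup K)] := by
  obtain ⟨R, -, h⟩ := H.st u h1
  rw [sylow_eq_of_le_norm fun t ht => h t (mem_fs.1 hu t ht)]
  exact h g hg

theorem uniq {T R : Sylow 2 K} {u : U} (h1 : u ≠ 1) (hT : u ∈ fs U (T : Subgroup K))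
    (hR : u ∈ fs U (R : Subgroup K)) : R = T :=
  sylow_eq_of_le_norm fun t ht => H.norm h1 hT (mem_fs.1 hR t ht)

theorem count (T : Sylow 2 K) :
    Nat.card U - 1 = Nat.card (Sylow 2 K) * (Nat.card (fs U (T : Subgroup K)) - 1) := by
  classical
  letI := Fintype.ofFinite (Sylow 2 K)
  let f : (Σ R : Sylow 2 K, {a : fs U (R : Subgroup K) // a ≠ 1}) → {u : U // u ≠ 1} :=
    fun a => ⟨a.2.1.1, fun e => a.2.2 (Subtype.ext e)⟩
  have hf : Function.Bijective f := by
    constructor
    · rintro ⟨R, a⟩ ⟨R', a'⟩ e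
      have e' : a.1.1 = a'.1.1 := congrArg Subtype.val e
      obtain rfl : R' = R := H.uniq (f ⟨R, a⟩).2 a.1.2 (e' ▸ a'.1.2)
      rw [Subtype.ext (Subtype.ext e' : a.1 = a'.1)]
    · rintro ⟨u, hu⟩
      obtain ⟨R, h, -⟩ := H.st u hu
      exact ⟨⟨R, ⟨u, h⟩, fun e => hu (congrArg Subtype.val e)⟩, rfl⟩
  rw [← card_ne_one, ← Nat.card_eq_of_bijective f hf, Nat.card_sigma,
    Finset.sum_congr rfl (g := fun _ => Nat.card (fs U (T : Subgroup K)) - 1) fun R _ => ?_]
  · simp
  · obtain ⟨g, rfl⟩ := MulAction.exists_smul_eq K T R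
    rw [card_ne_one, card_fs_smul]

theorem pCore_eq : pCore 2 K = ⊥ := by
  refine (Subgroup.eq_bot_iff_forall _).2 fun x hx => H.faith x fun u => ?_
  by_cases hu : u = 1
  · rw [hu, smul_one]
  obtain ⟨T, h, -⟩ := H.st u hu
  exact mem_fs.1 h x (Grp.pCore_le_sylow T hx)

theorem card_fx_sq_le (hn : NR K) {s : K} (hs : orderOf s = 2) :
    Nat.card (fx U s) * Nat.card (fx U s) ≤ Nat.card U := by
  obtain ⟨w, w1, w2, w3⟩ := Inv.exists_odd_inverted_of_not_mem_pCore hs
    (by rw [H.pCore_eq]; exact Inv.ne_one_of_orderOf_two hs)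
  have h1 : s * w * (s * w) = 1 := by
    rw [Inv.inv_of_orderOf_two hs] at w3
    rw [← mul_assoc, w3, inv_mul_cancel]
  have h2 := card_le_sq H.sq h1
  have h3 : fx U s ⊓ fx U (s * w) = ⊥ := by
    refine (Subgroup.eq_bot_iff_forall _).2 fun u hu => by_contra fun h0 => w1 ?_
    obtain ⟨T, -, h⟩ := H.st u h0
    refine hn T w w2 (isConj_iff.2 ⟨s, w3⟩) (h w ?_)
    have h4 := mem_fx.1 hu.2
    rw [mul_smul] at h4
    exact MulAction.injective s (h4.trans (mem_fx.1 hu.1).symm)
  have h4 := card_mul_le h3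
  have h5 : Nat.card (fx U s) ≤ Nat.card (fx U (s * w)) :=
    Nat.le_of_mul_le_mul_right (h4.trans h2) Nat.card_pos
  exact (Nat.mul_le_mul_left _ h5).trans h4

theorem p3 (h2 : P2 K) {T : Sylow 2 K} (hT : ¬ (T : Subgroup K).Normal) {n r : ℕ}
    (hn : Nat.card U = 2 ^ n) (hr : Misc.Zsig.IsPPD 2 n r) (hd : r ∣ Nat.card (Sylow 2 K)) :
    P3 K := by
  haveI := Fact.mk hr.1
  haveI := H.nt
  have hirr := fun x : K => irred_of_ppd H.sq H.faith hn hr.1 hr.2.1 hr.2.2 (x := x)
  have hodd : ∀ x t : K, orderOf x = r → orderOf t = 2 → t * x ≠ x * t := fun x t hx ht e => by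
    rcases hirr x hx (fx U t) (fun y hy => by
      rw [mem_fx, smul_smul, e, mul_smul, mem_fx.1 hy]) with h | h
    · have := card_le_sq H.sq (Inv.mul_self_of_orderOf_two ht)
      rw [h, card_bot] at this
      exact absurd this (not_le.2 Finite.one_lt_card)
    · exact Inv.ne_one_of_orderOf_two ht (H.faith t fun u => mem_fx.1 (h ▸ mem_top u))
  obtain ⟨w, w1, w2, w3⟩ := exists_real_odd hT
  obtain ⟨R, -, hR⟩ := FGS.exists_sylow_le_of_not_dvd_index (p := r)
    (H := centralizer ({w} : Set K)) (U := ⊥)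
    (fun h => hr.1.one_lt.ne' (Nat.eq_one_of_dvd_coprimes (h2 w w2 w3) h hd)) IsPGroup.of_bot bot_le
  obtain ⟨x, hx, hxo, hxc⟩ := Block.exists_central_orderOf R
    (hd.trans (T.card_eq_index_normalizer ▸ index_dvd_card _))
  obtain ⟨g, hg⟩ := isConj_iff.1 w3
  obtain ⟨c, hc, y, hy, rfl⟩ := (isSyl_of_le R hR).frattini (g := g) (by
    rw [← cj_eq_iff, ← centralizer_singleton_conj, hg]
    ext a
    rw [mem_c, mem_c]
    exact Commute.inv_right_iff)
  have hy2 : y * w * y⁻¹ = w⁻¹ := by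
    calc y * w * y⁻¹ = c⁻¹ * (c * y * w * (c * y)⁻¹) * c := by group
      _ = w⁻¹ := by rw [hg, mul_assoc, ← (Commute.inv_right (mem_c.1 hc)).eq]; group
  have hw : w ∈ 𝐍[(R : Subgroup K)] :=
    centralizer_le_normalizer' _ fun a ha => mem_c.1 (hR ha)
  have hev : Even (Nat.card 𝐍[(R : Subgroup K)]) := by
    refine Nat.not_odd_iff_even.1 fun ho => w1 (eq_one_of_odd_of_sq w2 (k := 1) ?_)
    have := (S3863.result (⟨w, hw⟩ : 𝐍[(R : Subgroup K)])
      (isConj_iff.2 ⟨⟨y, hy⟩, Subtype.ext hy2⟩)).2.1 (ho.of_dvd_nat (index_dvd_card _))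
    exact congrArg Subtype.val this
  obtain ⟨t, ht, ht2⟩ := Inv.exists_involution_of_even hev
  have h3 : x * (t * x * t⁻¹) = 1 := by
    by_contra h0
    have hc : Commute x (t * x * t⁻¹) := (hxc _ (conj_mem_of_mem_normalizer ht hx)).symm
    refine hodd _ t (orderOf_eq_prime ?_ h0) ht2 ?_
    · rw [hc.mul_pow, conj_pow, ← hxo, pow_orderOf_eq_one]
      group
    · conv_rhs => rw [hc.eq]
      rw [Inv.inv_of_orderOf_two ht2]
      group
  refine ⟨_, isCyclic_cent H.faith (hirr x hxo), h2 x ?_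
    (isConj_iff.2 ⟨t, eq_inv_of_mul_eq_one_right h3⟩)⟩
  rw [hxo]
  exact hr.1.odd_of_ne_two fun e => hodd x x hxo (hxo.trans e) rfl

end MH

theorem MH.solv {K : Type u} {U : Type*} [Group K] [Finite K] [CommGroup U] [Finite U]
    [MulDistribMulAction K U] (H : MH K U) (h2 : P2 K) : Group.IsSolvable K := by
  obtain ⟨T⟩ : Nonempty (Sylow 2 K) := inferInstance
  by_cases hT : (T : Subgroup K).Normal
  · exact RealCls.isSolvable_of_normal T
  obtain ⟨n, hn⟩ := exists_card_two H.sq (⊤ : Subgroup U)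
  rw [card_top] at hn
  obtain ⟨d, hd⟩ := exists_card_two H.sq (fs U (T : Subgroup K))
  have hc := H.count T
  rw [hn, hd] at hc
  have hdn : d < n := by
    refine (Nat.pow_lt_pow_iff_right one_lt_two).1 (not_le.1 fun h => hT ?_)
    have h1 : fs U (T : Subgroup K) = ⊤ := eq_top_of_le_card _ (by rwa [hn, hd])
    rw [(Subgroup.eq_bot_iff_forall (T : Subgroup K)).2 fun t ht =>
      H.faith t fun u => mem_fs.1 (h1 ▸ mem_top u) t ht]
    infer_instance
  have hd0 : 0 < d := Nat.pos_of_ne_zero fun e => by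
    have := Nat.one_lt_two_pow (n := n) (by omega)
    rw [e] at hc
    omega
  by_cases h6 : n = 6
  · subst h6
    have h8 : ∀ s : K, orderOf s = 2 → Nat.card (fx U s) ≤ 8 := fun s hs => by
      have := H.card_fx_sq_le h2.nr hs
      rw [hn] at this
      nlinarith
    by_cases h3 : d = 3
    · refine solv_of_uniq h2.nr fun S R a ha hR => ?_
      have key : ∀ Q : Sylow 2 K, a ∈ (Q : Subgroup K) → fs U (Q : Subgroup K) = fx U a := by
        intro Q hQ
        refine eq_of_le_of_card_ge (fun u hu => mem_fs.1 hu a hQ) ?_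
        obtain ⟨g, rfl⟩ := MulAction.exists_smul_eq K T Q
        rw [card_fs_smul, hd, h3]
        exact h8 a (Inv.orderOf_two_of_mul_self ha.sq ha.ne)
      haveI : Nontrivial (fs U (S : Subgroup K)) := by
        obtain ⟨g, rfl⟩ := MulAction.exists_smul_eq K T S
        rw [← Finite.one_lt_card_iff_nontrivial, card_fs_smul, hd, h3]
        norm_num
      obtain ⟨u, hu⟩ := exists_ne (1 : fs U (S : Subgroup K))
      exact H.uniq (fun e => hu (Subtype.ext e)) u.2 (by
        rw [key R hR, ← key S ha.mem]; exact u.2)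
    · have h21 : Nat.card (Sylow 2 K) = 63 ∨ Nat.card (Sylow 2 K) = 21 := by
        interval_cases d <;> omega
      refine solv_of_P4 K fun w w2 w3 => ⟨_, (Nat.eq_prime_pow_of_unique_prime_dvd
        (ix_pos w).ne' fun {p} hp hpd => by_contra fun hp2 => ?_).dvd⟩
      have hpn : ¬ p ∣ Nat.card (Sylow 2 K) := fun h =>
        hp.one_lt.ne' (Nat.eq_one_of_dvd_coprimes (h2 w w2 w3) hpd h)
      have h4 := hpd.trans (index_dvd_card _)
      rw [← (𝐍[(T : Subgroup K)]).card_mul_index] at h4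
      haveI := Fact.mk hp
      obtain ⟨h, hh⟩ := exists_prime_orderOf_dvd_card' p
        (((Nat.Prime.dvd_mul hp).1 h4).resolve_right (T.card_eq_index_normalizer ▸ hpn))
      obtain ⟨s, hs⟩ := exists_ci T fun e => hT (e ▸ inferInstance)
      have h5 := three_or_seven H.sq T.isPGroup' (h := (h : K)) hp hp2
        (by rw [← hh, ← Subgroup.orderOf_coe, pow_orderOf_eq_one])
        (fun t ht => inv_conj_mem_of_mem_normalizer h.2 ht) (fun e => by
          have : h = 1 := Subtype.ext (H.faith h fun u => mem_fx.1 (e ▸ mem_top u))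
          rw [this, orderOf_one] at hh
          exact hp.one_lt.ne hh) hs.mem (h8 s (Inv.orderOf_two_of_mul_self hs.sq hs.ne))
      rcases h5 with rfl | rfl <;> omega
  · obtain ⟨r, hr⟩ := Misc.Zsig.zsigmondy (a := 2) (n := n) one_lt_two (by omega) (by tauto) (by
      rintro ⟨-, m, hm⟩
      rcases m with _ | m
      · omega
      · rw [pow_succ] at hm; omega)
    refine solv_of_P3 K h2 (H.p3 h2 hT hn hr ?_)
    exact ((Nat.Prime.dvd_mul hr.1).1 (hc ▸ hr.2.1)).resolve_right (hr.2.2 d hd0 hdn)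

end Cfsg.Agent.RealG
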