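import Mathlib
import Cfsg.Agent.RealG.D

/-! Groups whose real-class-size graph is disconnected are solvable. -/

set_option autoImplicit false
set_option linter.style.haveILetI false
set_option linter.unusedSectionVars false

namespace Cfsg.Agent.RealG

open Cfsg Cfsg.Agent Subgroup Cfsg.Agent.FGS.BHM Cfsg.Agent.PLocal.Amb MulAction

universe u

variable {G : Type*} [Group G] [Finite G]

/-- the centraliser of `v` contains a Sylow `2`-subgroup as a normal subgroup -/
def TC (v : G) : Prop :=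
  ∃ T : Sylow 2 G, (T : Subgroup G) ≤ centralizer {v} ∧ centralizer {v} ≤ 𝐍[(T : Subgroup G)]

theorem solv_amb {G : Type u} [Group G] [Finite G] (h2 : P2 G) (V : Subgroup G) [V.Normal]
    (h0 : V ≠ ⊥) (hsq : ∀ v ∈ V, v * v = 1) (hst : ∀ v ∈ V, v ≠ 1 → TC v) :
    Group.IsSolvable G := by
  letI : CommGroup V := { (inferInstance : Group V) with
    mul_comm := fun a b => Subtype.ext (by
      have h := fun v (hv : v ∈ V) => inv_eq_of_mul_eq_one_right (hsq v hv)
      rw [coe_mul, coe_mul, ← h _ (mul_mem a.2 b.2), mul_inv_rev, h _ a.2, h _ b.2]) }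
  let f : G →* MulAut V := MulAut.conjNormal
  have hf : ∀ (g : G) (v : V), f.rangeRestrict g • v = v ↔ g ∈ centralizer ({(v : G)} : Set G) :=
    fun g v => by
      rw [FGS.mem_centralizer_singleton_iff', Subtype.ext_iff]
      rfl
  haveI : Nontrivial V := (nontrivial_iff_ne_bot V).2 h0
  have H : MH f.range V :=
    { sq := fun u => Subtype.ext (hsq u u.2)
      nt := inferInstance
      faith := fun g hg => Subtype.ext (MulEquiv.ext hg)
      st := fun u hu => by
        obtain ⟨T, h1, h3⟩ := hst u u.2 fun e => hu (Subtype.ext e)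
        refine ⟨T.mapSurjective f.rangeRestrict_surjective, mem_fs.2 ?_, fun g hg => ?_⟩
        · rintro _ ⟨t, ht, rfl⟩
          exact (hf t u).2 (h1 ht)
        · obtain ⟨g, rfl⟩ := f.rangeRestrict_surjective g
          exact le_normalizer_map _ ⟨g, h3 ((hf g u).1 hg), rfl⟩ }
  haveI := H.solv (h2.map _ f.rangeRestrict_surjective)
  obtain ⟨u, hu⟩ := exists_ne (1 : V)
  obtain ⟨T, -, h3⟩ := hst u u.2 fun e => hu (Subtype.ext e)
  haveI := solv_normalizer T
  refine Group.isSolvable_of_ker_le_range (𝐍[(T : Subgroup G)]).subtype f.rangeRestrict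
    fun g hg => ?_
  rw [range_subtype]
  exact h3 ((hf g u).1 (by rw [MonoidHom.mem_ker.1 hg, one_smul]))

theorem solv_amb' {G : Type u} [Group G] [Finite G] (h2 : P2 G) (V : Subgroup G) [V.Normal]
    {z : G} (hz : z ∈ V) (hz' : z ∉ center G) (hsq : ∀ v ∈ V, v * v = 1)
    (hst : ∀ v ∈ V, v ∉ center G → TC v) : Group.IsSolvable G := by
  have hs := QuotientGroup.mk'_surjective (center G)
  haveI := solv_amb (h2.map _ hs) (V.map (QuotientGroup.mk' (center G)))
    (fun e => hz' ((QuotientGroup.eq_one_iff z).1 (Subgroup.mem_bot.1 (e ▸ mem_map_of_mem _ hz))))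
    (by rintro _ ⟨v, hv, rfl⟩; rw [← map_mul, hsq v hv, map_one]) (by
      rintro _ ⟨v, hv, rfl⟩ h1
      obtain ⟨T, h3, h4⟩ := hst v hv fun e => h1 ((QuotientGroup.eq_one_iff v).2 e)
      refine ⟨T.mapSurjective hs, ?_, fun g hg => ?_⟩
      · rintro _ ⟨t, ht, rfl⟩
        rw [mem_c, ← map_mul, ← map_mul, mem_c.1 (h3 ht)]
      · obtain ⟨g, rfl⟩ := hs g
        refine le_normalizer_map _ ⟨g, smul_eq_iff.1 (sylow_eq_of_le_norm fun t ht => h4 ?_), rfl⟩
        have h5 : v⁻¹ * (g * v * g⁻¹) ∈ center G := by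
          rw [← QuotientGroup.eq]
          exact (mul_inv_eq_iff_eq_mul.2 (mem_c.1 hg)).symm
        have h6 : Commute t (g * v * g⁻¹) := by
          have := mem_c.1 (h3 ((mem_smul_iff T g t).1 ht))
          calc t * (g * v * g⁻¹) = g * (g⁻¹ * t * g * v) * g⁻¹ := by group
            _ = _ := by rw [this]; group
        have h7 := h6.mul_right (show Commute t _ from mem_center_iff.1 h5 t).inv_right
        rw [mul_inv_rev, mul_inv_cancel_left, inv_inv] at h7
        exact mem_c.2 h7)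
  exact (Group.isSolvable_iff_subgroup_quotient (center G)).2
    ⟨Group.isSolvable_of_comm fun a b => Subtype.ext (mem_center_iff.1 b.2 a), this⟩

theorem cm_mul_mem {a y : G} (h1 : (ix a).Coprime (ix y)) (h2 : ix (a * y) ≤ ix y) :
    ∀ n ∈ cm a, ∀ u, IsConj y u → IsConj y (n * u) := by
  have h3 : (ix a⁻¹).Coprime (ix (a * y)) := by
    rw [ix_inv, le_antisymm h2 (ix_le_mul h1)]; exact h1
  set Y : Set G := {u | IsConj y u} with hY
  have h4 : ∀ g : G, ∀ u ∈ Y, a⁻¹ * (g * a * g⁻¹) * u ∈ Y := by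
    intro g u hu
    obtain ⟨c, rfl⟩ := isConj_iff.1 hu
    obtain ⟨d, hd⟩ := isConj_iff.1 (isConj_mul h1 g c)
    have := isConj_mul h3 1 d
    rw [hd] at this
    simpa [hY, mul_assoc] using this
  let K : Subgroup G :=
    { carrier := {n | ∀ u, u ∈ Y ↔ n * u ∈ Y}
      one_mem' := fun u => by rw [one_mul]
      mul_mem' := fun {m n} hm hn u => by rw [mul_assoc, ← hm, ← hn]
      inv_mem' := fun {n} hn u => by rw [hn (n⁻¹ * u), mul_inv_cancel_left] }
  have h5 : cm a ≤ K := by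
    rw [cm_le]
    intro g u
    refine ⟨h4 g u, fun hu => ?_⟩
    have h6 : (fun v => a⁻¹ * (g * a * g⁻¹) * v) '' Y = Y :=
      Set.eq_of_subset_of_ncard_le (by rintro _ ⟨v, hv, rfl⟩; exact h4 g v hv)
        (Set.ncard_image_of_injective _ (mul_right_injective _)).ge
    rw [← h6] at hu
    obtain ⟨v, hv, e⟩ := hu
    exact mul_left_cancel e ▸ hv
  exact fun n hn u hu => (h5 hn u).1 hu

theorem cm_le_of_mem {V : Subgroup G} [hV : V.Normal] {c : G} (hc : c ∈ V) : cm c ≤ V :=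
  cm_le.2 fun g => mul_mem (inv_mem hc) (hV.conj_mem c hc g)

theorem two_dvd_of_max {V : Subgroup G} [V.Normal] (hV : IsPGroup 2 V) {b c : G} (hb : b ∈ V)
    (hmax : ∀ v ∈ V, ix v ≤ ix b) (hc : c ∈ V) (hc' : c ∉ center G)
    (h : (ix c).Coprime (ix b)) : 2 ∣ ix b := by
  have h6 := card_dvd_of_mul_mem (cm c) {u | IsConj b u}
    (cm_mul_mem h (hmax _ (mul_mem hc hb)))
  rw [Nat.card_coe_set_eq, FGS.ncard_setOf_isConj] at h6
  obtain ⟨k, hk⟩ := (hV.to_le (cm_le_of_mem hc)).exists_card_eq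
  rcases k with _ | k
  · exact absurd (card_eq_one.1 hk) (cm_ne_bot hc')
  · exact (hk ▸ dvd_pow_self 2 (Nat.succ_ne_zero k)).trans h6

theorem exists_max (V : Subgroup G) : ∃ b ∈ V, ∀ v ∈ V, ix v ≤ ix b :=
  Set.exists_max_image (V : Set G) ix (Set.toFinite _) ⟨1, one_mem V⟩

/-- the involutions of the centre of `O₂(G)` -/
def om (G : Type*) [Group G] : Subgroup G where
  carrier := {a | a ∈ pCore 2 G ⊓ 𝐂[pCore 2 G] ∧ a * a = 1}
  one_mem' := ⟨one_mem _, one_mul _⟩
  mul_mem' := fun {a b} ha hb => ⟨mul_mem ha.1 hb.1, by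
    rw [mul_assoc, ← mul_assoc b, ha.1.2 b hb.1.1, mul_assoc, hb.2, mul_one, ha.2]⟩
  inv_mem' := fun {a} ha => ⟨inv_mem ha.1, by rw [← mul_inv_rev, ha.2, inv_one]⟩

instance om_normal : (om G).Normal := ⟨fun a ha g =>
  ⟨(inferInstance : (pCore 2 G ⊓ 𝐂[pCore 2 G]).Normal).conj_mem a ha.1 g, by
    rw [conj_mul, ha.2]; group⟩⟩

theorem mem_om {z : G} (h1 : z ∈ pCore 2 G) (h2 : z * z = 1) (h3 : Odd (ix z)) : z ∈ om G := by
  obtain ⟨T, -, hT⟩ := FGS.exists_sylow_le_of_not_dvd_index (p := 2)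
    (H := centralizer ({z} : Set G)) (U := ⊥) h3.not_two_dvd_nat IsPGroup.of_bot bot_le
  exact ⟨⟨h1, fun a ha => mem_c.1 (hT (Grp.pCore_le_sylow T ha))⟩, h2⟩

theorem real_of_sq {v : G} (h : v * v = 1) : IsConj v v⁻¹ := by
  rw [inv_eq_of_mul_eq_one_right h]

/-- all primes dividing the class size of `x` lie in `π` -/
def TP (π : Set ℕ) (x : G) : Prop := ∀ q : ℕ, q.Prime → q ∣ ix x → q ∈ π

theorem TP.cop {π₁ π₂ : Set ℕ} (h : Disjoint π₁ π₂) {x y : G} (hx : TP π₁ x) (hy : TP π₂ y) :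
    (ix x).Coprime (ix y) :=
  Nat.coprime_of_dvd fun q hq h1 h2 => Set.disjoint_left.1 h (hx q hq h1) (hy q hq h2)

theorem TP.map {π : Set ℕ} {H : Type*} [Group H] (f : G →* H) (hf : Function.Surjective f) {x : G}
    (hx : TP π x) : TP π (f x) :=
  fun q hq h => hx q hq (h.trans (FGS.index_centralizer_map_dvd f hf x))

/-- every real class size is a `π₁`-number or a `π₂`-number -/
structure DG (G : Type*) [Group G] (π₁ π₂ : Set ℕ) : Prop where
  alt : ∀ x : G, IsConj x x⁻¹ → TP π₁ x ∨ TP π₂ x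
  disj : Disjoint π₁ π₂
  two : 2 ∉ π₂

namespace DG

variable {π₁ π₂ : Set ℕ} (D : DG G π₁ π₂)
include D

theorem odd {x : G} (h : TP π₂ x) : Odd (ix x) :=
  Nat.not_even_iff_odd.1 fun e => D.two (h 2 Nat.prime_two e.two_dvd)

theorem sq {x : G} (hr : IsConj x x⁻¹) (h : TP π₂ x) : x * x = 1 := by
  rw [← pow_two]
  exact (S3863.result x hr).2.1 (D.odd h)

theorem t1 {x : G} (hr : IsConj x x⁻¹) (h : x * x ≠ 1) : TP π₁ x :=
  (D.alt x hr).resolve_right fun e => h (D.sq hr e)

theorem t1_odd {w : G} (h1 : w ≠ 1) (h2 : Odd (orderOf w)) (hr : IsConj w w⁻¹) : TP π₁ w :=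
  D.t1 hr fun e => h1 (eq_one_of_odd_of_sq h2 (k := 1) (by rw [pow_one, pow_two, e]))

theorem tc {z : G} (hr : IsConj z z⁻¹) (h : TP π₂ z) (h1 : z ∉ center G) : TC z := by
  obtain ⟨T, -, hT⟩ := FGS.exists_sylow_le_of_not_dvd_index (p := 2)
    (H := centralizer ({z} : Set G)) (U := ⊥) (D.odd h).not_two_dvd_nat IsPGroup.of_bot bot_le
  refine ⟨T, hT, ?_⟩
  obtain ⟨P, hP⟩ := (isSyl_of_le T hT).exists_sylow
  have hn := (S3861.result P).1 fun w w1 w2 w3 => ?_
  · rw [hP] at hn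
    exact le_normalizer_of_normal_subgroupOf hT
  have hz := D.sq hr h
  have hc : Commute z w := (mem_c.1 w.2).symm
  obtain ⟨g, hg⟩ := isConj_iff.1 w3
  have h2 : IsConj (z * w) (z * w)⁻¹ := isConj_iff.2 ⟨g, by
    have e : (g : G) * w * (g : G)⁻¹ = (w : G)⁻¹ := congrArg Subtype.val hg
    rw [hc.mul_inv, inv_eq_of_mul_eq_one_right hz, ← e, ← mul_assoc, mem_c.1 g.2]
    group⟩
  have h3 := D.t1 h2 fun e => w1 (eq_one_of_odd_of_sq w2 (k := 1) (Subtype.ext (by
    rw [hc.symm.mul_mul_mul_comm, hz, one_mul] at e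
    simpa [pow_two] using e)))
  refine h1 (ix_eq_one_iff.1 (Nat.eq_one_of_dvd_coprimes (h3.cop D.disj h) ?_ dvd_rfl))
  refine ix_dvd_of_mem_zpowers ⟨(orderOf w : ℕ), ?_⟩
  obtain ⟨m, hm⟩ := w2
  simp only [zpow_natCast]
  rw [hc.mul_pow, ← Subgroup.orderOf_coe, pow_orderOf_eq_one, mul_one, Subgroup.orderOf_coe, hm,
    pow_succ, pow_mul, pow_two, hz, one_pow, one_mul]

theorem p2 {z : G} (hr : IsConj z z⁻¹) (h : TP π₂ z) (h1 : z ∉ center G) : P2 G := by
  intro w w2 w3
  by_cases w1 : w = 1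
  · rw [w1, ix_eq_one_iff.2 (one_mem _)]
    exact Nat.coprime_one_left _
  obtain ⟨T, -, hT⟩ := D.tc hr h h1
  rw [T.card_eq_index_normalizer]
  exact ((D.t1_odd w1 w2 w3).cop D.disj h).coprime_dvd_right (index_dvd_of_le hT)

theorem quot (N : Subgroup G) [N.Normal] (hN : Odd (Nat.card N)) : DG (G ⧸ N) π₁ π₂ where
  alt := fun x hx => by
    obtain ⟨g, hg, rfl⟩ := Block.exists_real_lift_of_odd hN x hx
    exact (D.alt g hg).imp (TP.map _ (QuotientGroup.mk'_surjective N))
      (TP.map _ (QuotientGroup.mk'_surjective N))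
  disj := D.disj
  two := D.two

theorem mem_pCore (hO : oddCore G = ⊥) {z : G} (hr : IsConj z z⁻¹) (h : TP π₂ z) :
    z ∈ pCore 2 G := by
  by_contra h0
  have hz := D.sq hr h
  obtain ⟨y, y1, y2, y3⟩ := Inv.exists_odd_inverted_of_not_mem_pCore
    (Inv.orderOf_two_of_mul_self hz fun e => h0 (e ▸ one_mem _)) h0
  have hc := (D.t1_odd y1 y2 (isConj_iff.2 ⟨z, y3⟩)).cop D.disj h
  have h1 : ∀ g : G, z * (g * y * g⁻¹) * z⁻¹ = (g * y * g⁻¹)⁻¹ := fun g => by
    obtain ⟨c, hc, d, hd, rfl⟩ := Grp.exists_mul_of_coprime_index hc.symm g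
    have e : c * d * y * (c * d)⁻¹ = c * y * c⁻¹ := by rw [mul_assoc c, mem_c.1 hd]; group
    rw [e]
    calc z * (c * y * c⁻¹) * z⁻¹ = (z * c) * y * (z * c)⁻¹ := by group
      _ = c * (z * y * z⁻¹) * c⁻¹ := by rw [← mem_c.1 hc]; group
      _ = _ := by rw [y3]; group
  have h2 : normalClosure ({y} : Set G) ≤ centralizer {y} := by
    refine (closure_le _).2 fun a ha => ?_
    obtain ⟨b, hb, hba⟩ := Group.mem_conjugatesOfSet_iff.1 ha
    obtain ⟨g, rfl⟩ := isConj_iff.1 hba
    rw [Set.mem_singleton_iff.1 hb]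
    have h3 := h1 (y⁻¹ * g)
    have h4 := h1 g
    set a := g * y * g⁻¹
    have e : y⁻¹ * g * y * (y⁻¹ * g)⁻¹ = y⁻¹ * a * y := by simp only [a]; group
    rw [e] at h3
    have h5 : a ∈ centralizer ({y ^ 2} : Set G) := by
      have h6 : z * (y⁻¹ * a * y) * z⁻¹ = y * a⁻¹ * y⁻¹ := by
        calc _ = (z * y * z⁻¹)⁻¹ * (z * a * z⁻¹) * (z * y * z⁻¹) := by group
          _ = _ := by rw [y3, h4]; group
      rw [h6] at h3
      have h7 : Commute (y ^ 2) a⁻¹ := by
        calc y ^ 2 * a⁻¹ = y * (y * a⁻¹ * y⁻¹) * y := by rw [pow_two]; group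
          _ = _ := by rw [h3, pow_two]; group
      exact mem_c.2 (Commute.inv_right_iff.1 h7).symm
    exact centralizer_le_of_mem_zpowers (mem_of_pow_mem_of_coprime (mem_zpowers (y ^ 2))
      (Nat.coprime_two_right.2 y2)) h5
  have h3 := Grp.le_pPrimeCore_of_isSubnormal (p := 2) (H := zpowers y)
    (.step _ (normalClosure {y}) (zpowers_le.2 (subset_normalClosure rfl)) (Normal.isSubnormal inferInstance)
      (normal_subgroupOf' (h2.trans ((centralizer_zpowers y).ge.trans
        (centralizer_le_normalizer' _))))) (by rwa [Nat.card_zpowers, Nat.coprime_two_right])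
  exact y1 (Subgroup.mem_bot.1 (hO ▸ h3 (mem_zpowers y)))

end DG

theorem DG.solv_of_core {G : Type u} [Group G] [Finite G] {π₁ π₂ : Set ℕ} (D : DG G π₁ π₂)
    (hO : oddCore G = ⊥) {z : G} (hr : IsConj z z⁻¹) (h : TP π₂ z) (h1 : z ∉ center G) :
    Group.IsSolvable G := by
  have hz := D.sq hr h
  have hzi : z⁻¹ = z := inv_eq_of_mul_eq_one_right hz
  have ho := mem_om (D.mem_pCore hO hr h) hz (D.odd h)
  have hn := cm_normal z
  let V : Subgroup G :=
    { carrier := {v | v ∈ cm z ∨ z * v ∈ cm z}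
      one_mem' := Or.inl (one_mem _)
      mul_mem' := fun {a b} ha hb => by
        rcases ha with ha | ha <;> rcases hb with hb | hb
        · exact Or.inl (mul_mem ha hb)
        · refine Or.inr ?_
          have := mul_mem (hn.conj_mem a ha z) hb
          simpa [mul_assoc] using this
        · exact Or.inr (mul_assoc z a b ▸ mul_mem ha hb)
        · refine Or.inl ?_
          have := mul_mem (hn.conj_mem' _ ha z) hb
          rwa [inv_mul_cancel_left, mul_assoc, ← mul_assoc z, hz, one_mul] at this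
      inv_mem' := fun {a} ha => by
        rcases ha with ha | ha
        · exact Or.inl (inv_mem ha)
        · refine Or.inr ?_
          have := hn.conj_mem _ (inv_mem ha) z
          rwa [mul_inv_rev, mul_assoc, mul_assoc, ← mul_inv_rev, hz, inv_one, mul_one] at this }
  haveI : V.Normal := ⟨fun a ha g => by
    rcases ha with ha | ha
    · exact Or.inl (hn.conj_mem a ha g)
    · refine Or.inr ?_
      have := mul_mem (mem_cm z g) (hn.conj_mem _ ha g)
      have e : z⁻¹ * (g * z * g⁻¹) * (g * (z * a) * g⁻¹) = z⁻¹ * (g * ((z * z) * a) * g⁻¹) := by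
        group
      rwa [e, hz, one_mul, hzi] at this⟩
  have hzV : z ∈ V := Or.inr (hz ▸ one_mem _)
  have hV : V ≤ om G := fun v hv => by
    rcases hv with hv | hv
    · exact cm_le_of_mem ho hv
    · exact (mul_mem_cancel_left ho).1 (cm_le_of_mem ho hv)
  have hsq : ∀ v ∈ V, v * v = 1 := fun v hv => (hV hv).2
  obtain ⟨b, hb, hmax⟩ := exists_max V
  refine solv_amb' (D.p2 hr h h1) V hzV h1 hsq fun v hv hv' => ?_
  refine D.tc (real_of_sq (hsq v hv)) ((D.alt v (real_of_sq (hsq v hv))).resolve_left fun h3 => ?_) hv'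
  rcases D.alt b (real_of_sq (hsq b hb)) with h4 | h4
  · have h5 := (h4.cop D.disj h).symm
    have h6 := cm_mul_mem h5 (hmax _ (mul_mem hzV hb))
    refine h1 (ix_eq_one_iff.1 ?_)
    rcases hb with hb | hb
    · have := h6 _ (inv_mem hb) b (IsConj.refl b)
      rw [inv_mul_cancel, isConj_one_left] at this
      have h7 := hmax z hzV
      rw [this, ix_eq_one_iff.2 (one_mem _)] at h7
      exact le_antisymm h7 (ix_pos z)
    · have := h6 _ hb b (IsConj.refl b)
      rw [mul_assoc, hsq b (Or.inr hb), mul_one] at this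
      obtain ⟨g, rfl⟩ := isConj_iff.1 this
      rw [ix, FGS.index_centralizer_conj] at h5 ⊢
      exact (Nat.coprime_self _).1 h5
  · exact (D.odd h4).not_two_dvd_nat (two_dvd_of_max
      ((Grp.pCore_isPGroup 2 G).to_le fun a ha => (hV ha).1.1) hb hmax hv hv' (h3.cop D.disj h4))

theorem DG.solv {G : Type u} [Group G] [Finite G] {π₁ π₂ : Set ℕ} (D : DG G π₁ π₂)
    {z : G} (hr : IsConj z z⁻¹) (h : TP π₂ z) (h1 : z ∉ center G) : Group.IsSolvable G := by
  have ho : Odd (Nat.card (oddCore G)) := Nat.coprime_two_right.1 (Grp.pPrimeCore_coprime 2 G)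
  have hs := QuotientGroup.mk'_surjective (oddCore G)
  by_cases h2 : QuotientGroup.mk' (oddCore G) z ∈ center _
  · have h3 := Inv.ZStar.centralizer_sup_eq_top_of_commutator_mem
      (Inv.orderOf_two_of_mul_self (D.sq hr h) fun e => h1 (e ▸ one_mem _)) (oddCore G) ho
      fun g => by
        rw [← QuotientGroup.eq_one_iff]
        have := mem_center_iff.1 h2 (g : G ⧸ oddCore G)
        simp only [QuotientGroup.mk'_apply] at this
        simp [← this]
    obtain ⟨T, -, hT⟩ := D.tc hr h h1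
    haveI := solv_normalizer T
    have h4 := FGS.isSolvable_sup_of_normal (N := oddCore G) (Grp.isSolvable_of_le hT)
      (S0205.result ho)
    rw [h3] at h4
    exact Group.isSolvable_of_surjective (f := (⊤ : Subgroup G).subtype)
      fun x => ⟨⟨x, trivial⟩, rfl⟩
  · exact (Group.isSolvable_iff_subgroup_quotient (oddCore G)).2 ⟨S0205.result ho,
      (D.quot _ ho).solv_of_core (Grp.pPrimeCore_quotient_pPrimeCore 2 G) (real_map _ hr)
        (h.map _ hs) h2⟩

end Cfsg.Agent.RealG
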