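import Mathlib
import Cfsg.Agent.RealG.E
import Cfsg.Agent.Grp.Fitting

/-! Disconnected real-class-size graphs: the subgroup generated by the `2`-elements. -/

set_option autoImplicit false
set_option linter.style.haveILetI false
set_option linter.unusedSectionVars false

namespace Cfsg.Agent.RealG

open Cfsg Cfsg.Agent Subgroup Cfsg.Agent.FGS.BHM Cfsg.Agent.PLocal.Amb MulAction

variable {G : Type*} [Group G] [Finite G]

/-- the set of real class sizes -/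
abbrev RS (G : Type*) [Group G] : Set ℕ :=
  {n : ℕ | ∃ x : G, IsConj x x⁻¹ ∧ (Subgroup.centralizer ({x} : Set G)).index = n}

/-- the real-class-size graph is disconnected -/
abbrev Disc (G : Type*) [Group G] : Prop :=
  ∃ π₁ π₂ : Set ℕ, π₁.Nonempty ∧ π₂.Nonempty ∧ Disjoint π₁ π₂ ∧
    (∀ q ∈ π₁ ∪ π₂, q.Prime ∧ ∃ n ∈ RS G, q ∣ n) ∧
    (∀ q : ℕ, q.Prime → (∃ n ∈ RS G, q ∣ n) → q ∈ π₁ ∨ q ∈ π₂) ∧
    ∀ a ∈ π₁, ∀ b ∈ π₂, ∀ n ∈ RS G, ¬ (a ∣ n ∧ b ∣ n)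

theorem Disc.exists_DG (h : Disc G) : ∃ π₁ π₂ : Set ℕ, DG G π₁ π₂ ∧
    (∃ a : G, IsConj a a⁻¹ ∧ TP π₁ a ∧ a ∉ center G) ∧
    ∃ z : G, IsConj z z⁻¹ ∧ TP π₂ z ∧ z ∉ center G := by
  obtain ⟨π₁, π₂, ⟨q₁, h1⟩, ⟨q₂, h2⟩, hd, hs, hc, he⟩ := h
  have alt : ∀ x : G, IsConj x x⁻¹ → TP π₁ x ∨ TP π₂ x := fun x hx => by
    by_contra h0
    simp only [TP, not_or, not_forall] at h0
    obtain ⟨⟨a, a1, a2, a3⟩, b, b1, b2, b3⟩ := h0
    exact he b ((hc b b1 ⟨_, ⟨x, hx, rfl⟩, b2⟩).resolve_right b3) a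
      ((hc a a1 ⟨_, ⟨x, hx, rfl⟩, a2⟩).resolve_left a3) _ ⟨x, hx, rfl⟩ ⟨b2, a2⟩
  have hne : ∀ {q : ℕ} {x : G}, q.Prime → q ∣ ix x → x ∉ center G := fun hq h0 e =>
    hq.one_lt.ne' (Nat.dvd_one.1 (ix_eq_one_iff.2 e ▸ h0))
  obtain ⟨p1, _, ⟨a, ha, rfl⟩, ha'⟩ := hs q₁ (Or.inl h1)
  obtain ⟨p2, _, ⟨z, hz, rfl⟩, hz'⟩ := hs q₂ (Or.inr h2)
  have k1 : ∃ a : G, IsConj a a⁻¹ ∧ TP π₁ a ∧ a ∉ center G := ⟨a, ha, (alt a ha).resolve_right
    fun e => Set.disjoint_left.1 hd h1 (e _ p1 ha'), hne p1 ha'⟩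
  have k2 : ∃ a : G, IsConj a a⁻¹ ∧ TP π₂ a ∧ a ∉ center G := ⟨z, hz, (alt z hz).resolve_left
    fun e => Set.disjoint_left.1 hd (e _ p2 hz') h2, hne p2 hz'⟩
  by_cases h0 : 2 ∈ π₂
  · exact ⟨π₂, π₁, ⟨fun x hx => (alt x hx).symm, hd.symm, fun e => Set.disjoint_left.1 hd e h0⟩,
      k2, k1⟩
  · exact ⟨π₁, π₂, ⟨alt, hd, h0⟩, k1, k2⟩

theorem Disc.solv (h : Disc G) : Group.IsSolvable G := by
  obtain ⟨_, _, D, -, z, h1, h2, h3⟩ := h.exists_DG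
  exact D.solv h1 h2 h3

theorem Disc.even (h : Disc G) : ∃ n ∈ RS G, 2 ∣ n := by
  by_contra h0
  have ho : ∀ x : G, IsConj x x⁻¹ → Odd (ix x) := fun x hx =>
    Nat.not_even_iff_odd.1 fun e => h0 ⟨_, ⟨x, hx, rfl⟩, e.two_dvd⟩
  have hsq : ∀ x : G, IsConj x x⁻¹ → x ^ 2 ^ 1 = 1 := fun x hx =>
    (S3863.result x hx).2.1 (ho x hx)
  obtain ⟨T⟩ : Nonempty (Sylow 2 G) := inferInstance
  have hT : (T : Subgroup G).Normal := by
    by_contra hT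
    obtain ⟨w, w1, w2, w3⟩ := exists_real_odd hT
    exact w1 (eq_one_of_odd_of_sq w2 (hsq w w3))
  have hm : ∀ x : G, IsConj x x⁻¹ → x ∈ om G := fun x hx => mem_om (by
    rw [Grp.pCore_eq_sylow_of_normal T hT]
    exact Ree.mem_sylow_of_mem_normalizer T (hsq x hx) (normalizer_eq_top_iff.2 hT ▸ mem_top x))
      (by simpa [pow_two] using hsq x hx) (ho x hx)
  obtain ⟨_, _, D, ⟨a, a1, a2, a3⟩, z, z1, z2, z3⟩ := h.exists_DG
  obtain ⟨b, hb, hmax⟩ := exists_max (om G)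
  have hr := real_of_sq hb.2
  have hV : IsPGroup 2 (om G) := (Grp.pCore_isPGroup 2 G).to_le fun a ha => ha.1.1
  refine (ho b hr).not_two_dvd_nat ?_
  rcases D.alt b hr with h1 | h1
  · exact two_dvd_of_max hV hb hmax (hm z z1) z3 (h1.cop D.disj z2).symm
  · exact two_dvd_of_max hV hb hmax (hm a a1) a3 (a2.cop D.disj h1)

theorem dvd_card_sylow [Group.IsSolvable G] (hg : Block.elCl 2 G = ⊤) {p : ℕ} (hp : p.Prime)
    (hp2 : p ≠ 2) (h : p ∣ Nat.card G) : p ∣ Nat.card (Sylow 2 G) := by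
  by_contra h0
  haveI := Fact.mk hp
  have hs := QuotientGroup.mk'_surjective (pPrimeCore p G)
  set Q := G ⧸ pPrimeCore p G
  have h1 := Grp.centralizer_pCore_le (Grp.pPrimeCore_quotient_pPrimeCore p G)
  have h2 : ∀ T : Sylow 2 Q, (T : Subgroup Q) = ⊥ := fun T => by
    obtain ⟨R, -, hR⟩ := FGS.exists_sylow_le_of_not_dvd_index (p := p)
      (H := 𝐍[(T : Subgroup Q)]) (U := ⊥) (fun e => h0 ((T.card_eq_index_normalizer ▸ e).trans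
        (card_sylow_map_dvd _ hs 2))) IsPGroup.of_bot bot_le
    have h3 : (T : Subgroup Q) ⊓ pCore p Q = ⊥ :=
      Grp.inf_eq_bot_of_isPGroup_of_coprime T.isPGroup'
        (Grp.coprime_card_of_isPGroup_of_ne hp2 (Grp.pCore_isPGroup p Q))
    refine le_bot_iff.1 (h3 ▸ le_inf le_rfl fun t ht => h1 fun a ha => ?_)
    have h4 : t * (a * t⁻¹ * a⁻¹) ∈ (T : Subgroup Q) ⊓ pCore p Q :=
      mem_inf.2 ⟨mul_mem ht (conj_mem_of_mem_normalizer (hR (Grp.pCore_le_sylow R ha))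
        (inv_mem ht)), by
        rw [← mul_assoc, ← mul_assoc]
        exact mul_mem ((inferInstance : (pCore p Q).Normal).conj_mem a ha t)
          ((pCore p Q).inv_mem ha)⟩
    rw [h3, Subgroup.mem_bot] at h4
    calc a * t = t * (a * t⁻¹ * a⁻¹) * (a * t) := by rw [h4, one_mul]
      _ = t * a := by group
  have h3 : (⊤ : Subgroup G) ≤ pPrimeCore p G := by
    rw [← hg]
    refine (closure_le _).2 fun g ⟨k, hk⟩ => ?_
    obtain ⟨T, hT⟩ := FGS.exists_sylow_mem (p := 2) (x := (g : Q))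
      ⟨k, by rw [← QuotientGroup.mk_pow, ← hk, pow_orderOf_eq_one, QuotientGroup.mk_one]⟩
    rw [h2 T, Subgroup.mem_bot] at hT
    exact (QuotientGroup.eq_one_iff g).1 hT
  exact hp.one_lt.ne' (Nat.eq_one_of_dvd_coprimes
    (Grp.pPrimeCore_eq_top_iff.1 (eq_top_iff.2 h3)) h dvd_rfl)

theorem DG.disc {π₁ π₂ : Set ℕ} (D : DG G π₁ π₂) {a z : G} (a1 : IsConj a a⁻¹) (a2 : TP π₁ a)
    (a3 : a ∉ center G) (z1 : IsConj z z⁻¹) (z2 : TP π₂ z) (z3 : z ∉ center G) : Disc G := by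
  have hf : ∀ x : G, x ∉ center G → (ix x).minFac.Prime := fun x hx =>
    Nat.minFac_prime fun e => hx (ix_eq_one_iff.1 e)
  refine ⟨{q | q ∈ π₁ ∧ q.Prime ∧ ∃ n ∈ RS G, q ∣ n}, {q | q ∈ π₂ ∧ q.Prime ∧ ∃ n ∈ RS G, q ∣ n},
    ⟨_, a2 _ (hf a a3) (Nat.minFac_dvd _), hf a a3, _, ⟨a, a1, rfl⟩, Nat.minFac_dvd _⟩,
    ⟨_, z2 _ (hf z z3) (Nat.minFac_dvd _), hf z z3, _, ⟨z, z1, rfl⟩, Nat.minFac_dvd _⟩,
    D.disj.mono (fun q hq => hq.1) fun q hq => hq.1, fun q hq => hq.elim (·.2) (·.2), ?_, ?_⟩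
  · rintro q hq ⟨_, ⟨x, hx, rfl⟩, h⟩
    exact (D.alt x hx).imp (fun e => ⟨e q hq h, hq, _, ⟨x, hx, rfl⟩, h⟩)
      fun e => ⟨e q hq h, hq, _, ⟨x, hx, rfl⟩, h⟩
  · rintro p hp q hq _ ⟨x, hx, rfl⟩ ⟨h1, h2⟩
    rcases D.alt x hx with e | e
    · exact Set.disjoint_left.1 D.disj (e q hq.2.1 h2) hq.1
    · exact Set.disjoint_left.1 D.disj hp.1 (e p hp.2.1 h1)

theorem Disc.res (h : Disc G) (hT : ¬ ∀ P : Sylow 2 G, (P : Subgroup G).Normal) :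
    Disc (Block.elCl 2 G) ∧ ∀ n ∈ RS (Block.elCl 2 G), Odd n ∨ ∃ j : ℕ, n = 2 ^ j := by
  obtain ⟨π₁, π₂, D, -, z, z1, z2, z3⟩ := h.exists_DG
  set K := Block.elCl 2 G
  haveI : K.Normal := Block.elCl_normal
  have D' : DG K π₁ π₂ := ⟨fun x hx => (D.alt x (real_map K.subtype hx)).imp
    (fun e q hq h => e q hq (h.trans (FGS.index_centralizer_normal_dvd K x)))
    fun e q hq h => e q hq (h.trans (FGS.index_centralizer_normal_dvd K x)), D.disj, D.two⟩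
  obtain ⟨hz, z1'⟩ := (S3863.result z z1).2.2 K Block.odd_index_elCl
  have z2' : TP π₂ (⟨z, hz⟩ : K) :=
    fun q hq h => z2 q hq (h.trans (FGS.index_centralizer_normal_dvd K _))
  have z3' : (⟨z, hz⟩ : K) ∉ center K := fun e => hT fun P => by
    obtain ⟨T, -, h1⟩ := D.tc z1 z2 z3
    have key : ∀ R : Sylow 2 G, R = T := fun R => sylow_eq_of_le_norm fun t ht => h1
      (mem_c.2 (congrArg Subtype.val (mem_center_iff.1 e ⟨t, Block.le_elCl R.isPGroup' ht⟩)))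
    exact normalizer_eq_top_iff.1 (eq_top_iff.2 fun g _ => smul_eq_iff.1
      ((key _).trans (key _).symm))
  obtain ⟨P, hP⟩ := not_forall.1 hT
  obtain ⟨w, w1, w2, w3⟩ := exists_real_odd hP
  obtain ⟨hw, w3'⟩ := (S3863.result w w3).2.2 K Block.odd_index_elCl
  have w2' : Odd (orderOf (⟨w, hw⟩ : K)) := by rwa [Subgroup.orderOf_mk]
  have w1' : (⟨w, hw⟩ : K) ≠ 1 := fun e => w1 (congrArg Subtype.val e)
  refine ⟨D'.disc w3' (D'.t1_odd w1' w2' w3') (fun e => w1' (eq_one_of_odd_of_sq w2' (k := 1)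
    ((S3863.result _ w3').2.1 (show Odd (ix _) by rw [ix_eq_one_iff.2 e]; exact odd_one))))
    z1' z2' z3', ?_⟩
  rintro _ ⟨x, hx, rfl⟩
  refine (D'.alt x hx).symm.imp D'.odd fun e => ⟨_, Nat.eq_prime_pow_of_unique_prime_dvd
    (ix_pos x).ne' fun {p} hp hd => by_contra fun hp2 => ?_⟩
  haveI := D'.solv z1' z2' z3'
  have h1 := dvd_card_sylow (eq_top_iff.2 (by
    rw [← subgroupOf_self K]; exact Block.elCl_subgroupOf_le le_rfl)) hp hp2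
    (hd.trans (index_dvd_card _))
  obtain ⟨T, -, h2⟩ := D'.tc z1' z2' z3'
  rw [T.card_eq_index_normalizer] at h1
  exact Set.disjoint_left.1 D.disj (e p hp hd) (z2' p hp (h1.trans (index_dvd_of_le h2)))

end Cfsg.Agent.RealG
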